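import Groth.Agent.L28.FieldCd.Degree
import Groth.Agent.L28.EtTrace.FieldGm
import Groth.Agent.L28.EtCartan.ArtinSchreier
import Groth.Agent.L28.GmTorsion.Basic
import Groth.Agent.L28.Misc.MuConst
import Groth.Agent.L28.Supp.Twist
import Groth.Prelude.Def_SixF3
import Mathlib.RingTheory.Polynomial.Cyclotomic.Roots
import Mathlib.FieldTheory.IsSepClosed

/-!
Fields of cohomological dimension at most one.
-/

set_option autoImplicit false
set_option linter.style.haveILetI false
set_option linter.unusedSectionVars false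
set_option backward.isDefEq.respectTransparency.types false

universe u

open CategoryTheory CategoryTheory.Limits AlgebraicGeometry Opposite CategoryTheory.Abelian
open Groth.L28.EtTrace (specExt etale_specExt NormSurj eq_zero_of_normSurj subsingleton_gm_one)
open Groth.L27.LimCoh (δH exists_δH)

namespace Groth.L28.FieldCd

variable (p : ℕ) [Fact p.Prime]

/-- Artin–Schreier: no degree two classes modulo the characteristic -/
theorem subsingleton_const_of_char (E : Type u) [Field E] (hp : (p : E) = 0) (n : ℕ) :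
    Subsingleton (EtCoh.H (Spec (CommRingCat.of E)) (EtCoh.const (Spec (CommRingCat.of E)) (ZMod p)) (n + 2)) := by
  let X := Spec (CommRingCat.of E)
  have h0 : (p : Γ(X, ⊤)) = 0 := by
    rw [← map_natCast (Scheme.ΓSpecIso (CommRingCat.of E)).inv.hom, hp, map_zero]
  have hS := Groth.L28.EtCartan.shortExact_asSeq (X := X) p h0
  haveI hga : ∀ j, Subsingleton (EtCoh.H X (EtCoh.Ga X) (j + 1)) := fun j =>
    Groth.L28.EtCartan.subsingleton_H j _ Groth.L28.EtCartan.acyc_Ga
  refine subsingleton_of_forall_eq 0 fun c => ?_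
  obtain ⟨y, hy⟩ := exists_δH hS (n + 1) c (Subsingleton.elim (α := EtCoh.H X (EtCoh.Ga X) (n + 2)) _ _)
  rw [← hy]
  exact (congrArg _ (Subsingleton.elim (α := EtCoh.H X (EtCoh.Ga X) (n + 1)) y 0)).trans (map_zero _)

/-- Kummer: degree two classes of roots of unity -/
theorem subsingleton_mu_two (E : Type u) [Field E] (hp : (p : E) ≠ 0)
    (hN : ∀ (E' : Type u) [Field E'] [Algebra E E'] [FiniteDimensional E E'] [Algebra.IsSeparable E E'], NormSurj p E') :
    Subsingleton (EtCoh.H (Spec (CommRingCat.of E)) (EtCoh.mu (Spec (CommRingCat.of E)) p) 2) := by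
  let X := Spec (CommRingCat.of E)
  have hu : IsUnit (p : Γ(X, ⊤)) := by
    rw [← map_natCast (Scheme.ΓSpecIso (CommRingCat.of E)).inv.hom]
    exact (isUnit_iff_ne_zero.2 hp).map _
  have hS := EtSix.kummerShortExact (Groth.L28.GmTorsion.epi_powMap hu)
  haveI : Subsingleton (EtCoh.H X (EtCoh.Gm X) 1) := subsingleton_gm_one E
  refine subsingleton_of_forall_eq 0 fun c => ?_
  have hk : (p • (EtCoh.HF X 2).map (EtCoh.muι X p) c : EtCoh.H X (EtCoh.Gm X) 2) = 0 := by
    have hmem : (EtCoh.HF X 2).map (EtCoh.muι X p) c ∈ Set.range ⇑((EtCoh.HF X 2).map (EtCoh.muι X p)) := ⟨c, rfl⟩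
    rw [Groth.L28.GmTorsion.range_HF_muι p hu 2] at hmem
    exact hmem
  obtain ⟨y, hy⟩ := exists_δH hS 1 c (eq_zero_of_normSurj E p hN _ ⟨1, by rw [pow_one]; exact hk⟩)
  rw [← hy]
  exact (congrArg _ (Subsingleton.elim (α := EtCoh.H X (EtCoh.Gm X) 1) y 0)).trans (map_zero _)

set_option maxHeartbeats 1000000 in
/-- degree two classes of the constants -/
theorem subsingleton_const_two (E : Type u) [Field E] (hp : (p : E) ≠ 0)
    (hN : ∀ (E' : Type u) [Field E'] [Algebra E E'] [FiniteDimensional E E'] [Algebra.IsSeparable E E'], NormSurj p E') :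
    Subsingleton (EtCoh.H (Spec (CommRingCat.of E)) (EtCoh.const (Spec (CommRingCat.of E)) (ZMod p)) 2) := by
  have hpr : p.Prime := Fact.out
  haveI : NeZero (p : E) := ⟨hp⟩
  let Ω := SeparableClosure E
  haveI : NeZero (p : Ω) := ⟨by rw [← map_natCast (algebraMap E Ω)]; exact fun h => hp ((algebraMap E Ω).injective (h.trans (map_zero _).symm))⟩
  obtain ⟨ζ, hζ⟩ := IsSepClosed.exists_root (Polynomial.cyclotomic p Ω)
    (by rw [Polynomial.degree_cyclotomic]; exact_mod_cast (Nat.totient_pos.2 hpr.pos).ne')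
    (Polynomial.separable_cyclotomic p Ω)
  have hprim : IsPrimitiveRoot ζ p := Polynomial.isRoot_cyclotomic_iff.1 hζ
  have hint : IsIntegral E ζ := Algebra.IsIntegral.isIntegral ζ
  let L : IntermediateField E Ω := IntermediateField.adjoin E {ζ}
  haveI : FiniteDimensional E L := IntermediateField.adjoin.finiteDimensional hint
  have hdeg : Module.finrank E L < p := by
    rw [IntermediateField.adjoin.finrank hint]
    refine lt_of_le_of_lt (Polynomial.natDegree_le_of_dvd (minpoly.dvd E ζ (p := Polynomial.cyclotomic p E) ?_)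
      (Polynomial.cyclotomic_ne_zero p E)) ?_
    · rw [Polynomial.aeval_def, Polynomial.eval₂_eq_eval_map, Polynomial.map_cyclotomic]
      exact hζ
    · rw [Polynomial.natDegree_cyclotomic, Nat.totient_prime hpr]
      have := hpr.pos
      omega
  have hndvd : ¬ p ∣ Module.finrank E L := fun h =>
    absurd (Nat.le_of_dvd Module.finrank_pos h) (Nat.not_le.2 hdeg)
  let X := Spec (CommRingCat.of L)
  let z₀ : L := ⟨ζ, IntermediateField.mem_adjoin_simple_self E ζ⟩
  have hz₀ : IsPrimitiveRoot z₀ p := IsPrimitiveRoot.of_map_of_injective (f := algebraMap L Ω) hprim (algebraMap L Ω).injective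
  let ι := (Scheme.ΓSpecIso (CommRingCat.of L)).inv.hom
  have hpL : (p : L) ≠ 0 := by
    rw [← map_natCast (algebraMap E L)]
    exact fun h => hp ((algebraMap E L).injective (h.trans (map_zero _).symm))
  have hu : IsUnit (p : Γ(X, ⊤)) := by
    rw [← map_natCast ι]
    exact (isUnit_iff_ne_zero.2 hpL).map ι
  let z : Γ(X, ⊤)ˣ := Units.map ι.toMonoidHom (Units.mk0 z₀ (hz₀.ne_zero hpr.ne_zero))
  have hz : z ^ p = 1 := by
    rw [← map_pow, show (Units.mk0 z₀ (hz₀.ne_zero hpr.ne_zero)) ^ p = 1 from Units.ext (by simpa using hz₀.pow_eq_one),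
      map_one]
  obtain ⟨e⟩ := Groth.L28.Misc.nonempty_mu_iso_const (X := X) hu hpr.pos z hz (fun i hi hip => by
    show IsUnit (ι z₀ ^ i - 1)
    rw [← map_pow, ← map_one ι, ← map_sub]
    exact (isUnit_iff_ne_zero.2 (sub_ne_zero.2 (hz₀.pow_ne_one_of_pos_of_lt hi.ne' hip))).map ι)
  have hmu := subsingleton_mu_two p L hpL (fun E' _ _ _ _ => by
    letI : Algebra E E' := ((algebraMap L E').comp (algebraMap E L)).toAlgebra
    haveI : IsScalarTower E L E' := IsScalarTower.of_algebraMap_eq' rfl
    haveI : FiniteDimensional E E' := Module.Finite.trans L E'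
    haveI : Algebra.IsSeparable E E' := Algebra.IsSeparable.trans E L E'
    exact hN E')
  refine subsingleton_of_forall_eq 0 fun c => ?_
  haveI := etale_specExt E L
  haveI := Groth.L27.ExtZero.jCont (specExt E L)
  haveI := Groth.L27.EtSite.preservesFiniteLimits_pull (specExt E L)
  let ψ : (EtCoh.pull (specExt E L)).obj (EtCoh.const (Spec (CommRingCat.of E)) (ZMod p)) ≅ EtCoh.mu X p :=
    (Groth.L27.ExtZero.pullRestr (specExt E L)).app _ ≪≫ Groth.L28.Supp.restrConst (specExt E L) (ZMod p) ≪≫ e.symm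
  have h0 : EtCore.Hpull (specExt E L) _ 2 c = 0 :=
    (Groth.L28.EtTrace.HF_map_eq_zero_iff ψ 2 _).1 (Subsingleton.elim (α := EtCoh.H X (EtCoh.mu X p) 2) _ _)
  refine Groth.L28.EtTrace.eq_zero_of_coprime ((Nat.Prime.coprime_iff_not_dvd hpr).2 hndvd) c ?_
    (Groth.L28.EtTrace.finrank_nsmul_eq_zero E L _ 2 c h0)
  rw [← Groth.L28.EtTrace.comp_mk₀_nsmul, nsmul_id_const, Ext.mk₀_zero, Ext.comp_zero]

/-- cohomological dimension at most one from surjective norms -/
theorem cd_one (K : Type u) [Field K]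
    (hN : ∀ (E : Type u) [Field E] [Algebra K E] [FiniteDimensional K E] [Algebra.IsSeparable K E],
      (p : K) ≠ 0 → NormSurj p E)
    (F : EtCoh.Ab (Spec (CommRingCat.of K))) (hF : EtCoh.IsTorsion F) (q : ℕ) (hq : 1 < q)
    (x : EtCoh.H (Spec (CommRingCat.of K)) F q) (hx : ∃ m : ℕ, p ^ m • x = 0) : x = 0 := by
  refine cd_le K p 1 (fun G hG => eq_zero_of_prime_to K p 2 (fun E _ _ _ _ _ => ?_) G hG) F hF q hq x hx
  by_cases hp : (p : K) = 0
  · exact subsingleton_const_of_char p E (by rw [← map_natCast (algebraMap K E), hp, map_zero]) 0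
  · refine subsingleton_const_two p E (by rw [← map_natCast (algebraMap K E)]; exact fun h => hp ((algebraMap K E).injective (h.trans (map_zero _).symm))) fun E' _ _ _ _ => ?_
    letI : Algebra K E' := ((algebraMap E E').comp (algebraMap K E)).toAlgebra
    haveI : IsScalarTower K E E' := IsScalarTower.of_algebraMap_eq' rfl
    haveI : FiniteDimensional K E' := Module.Finite.trans E E'
    haveI : Algebra.IsSeparable K E' := Algebra.IsSeparable.trans K E E'
    exact hN E' hp

end Groth.L28.FieldCd
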