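import Groth.Agent.L28.FieldCd.Restrict
import Groth.Agent.L27.LimCoh.HMaps
import Groth.Agent.L27.Colim.Torsion

/-!
Cohomological dimension of fields from constant coefficients.
-/

set_option autoImplicit false
set_option linter.style.haveILetI false
set_option linter.unusedSectionVars false
set_option backward.isDefEq.respectTransparency.types false

universe u

open CategoryTheory CategoryTheory.Limits AlgebraicGeometry Opposite CategoryTheory.Abelian
open Groth.L28.EtTrace (specExt etale_specExt finrank_nsmul_eq_zero eq_zero_of_coprime comp_mk₀_nsmul)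

namespace Groth.L28.FieldCd

variable (K : Type u) [Field K] (p : ℕ) [Fact p.Prime] (n : ℕ)

theorem exists_Hpull_eq_zero (F : EtCoh.Ab (Spec (CommRingCat.of K))) (hF : p • 𝟙 F = 0)
    (x : EtCoh.H (Spec (CommRingCat.of K)) F n) :
    ∃ i : Idx K, ∀ (j : Idx K), i.fld ≤ j.fld → ∀ (E : Type u) [Field E] [Algebra K E] [FiniteDimensional K E]
      [Algebra.IsSeparable K E] [Algebra E j.fld] [IsScalarTower K E j.fld] [FiniteDimensional E j.fld]
      [IsGalois E j.fld] [PreservesFiniteLimits (EtCoh.pull (specExt K E))] (a : ℕ), Module.finrank E j.fld = p ^ a →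
      Subsingleton (EtCoh.H (Spec (CommRingCat.of E)) (EtCoh.const (Spec (CommRingCat.of E)) (ZMod p)) n) →
      EtCore.Hpull (specExt K E) F n x = 0 := by
  obtain ⟨Q, π, hπ, hx⟩ := exists_dev_gens n x
  obtain ⟨i, hi⟩ := exists_compare hF hπ
  refine ⟨i, fun j hj E _ _ _ _ _ _ _ _ _ a ha _ => ?_⟩
  haveI := etale_specExt K E
  haveI := Groth.L27.ExtZero.jCont (specExt K E)
  obtain ⟨Q', φ, hφ⟩ := hi j hj E a ha
  let ρ := Groth.L27.ExtZero.pullRestr (specExt K E)
  have h0 : (EtCoh.HF (Spec (CommRingCat.of E)) n).map (ρ.hom.app F) (EtCore.Hpull (specExt K E) F n x) = 0 := by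
    refine Dev.eq_zero (fun Q π _ _ e y hy => step_injective e y hy) hφ _ ?_
    rw [← Groth.L27.LimCoh.HF_map_comp, ← Category.assoc]
    refine (congrArg (fun k => (EtCoh.HF (Spec (CommRingCat.of E)) n).map (k ≫ φ) (EtCore.Hpull (specExt K E) F n x))
      (ρ.hom.naturality π).symm).trans ?_
    rw [Category.assoc, Groth.L27.LimCoh.HF_map_comp, ← Groth.L27.LimCoh.Hpull_map, hx]
    refine (congrArg _ (map_zero (EtCore.Hpull (specExt K E) Q n))).trans ?_
    exact map_zero ((EtCoh.HF (Spec (CommRingCat.of E)) n).map (ρ.hom.app Q ≫ φ)).hom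
  exact (ConcreteCategory.bijective_of_isIso ((EtCoh.HF (Spec (CommRingCat.of E)) n).map (ρ.hom.app F))).1
    (h0.trans (map_zero _).symm)

set_option maxHeartbeats 1000000 in
set_option synthInstance.maxHeartbeats 100000 in
/-- sheaves killed by a prime: vanishing from the constants over extensions of prime-to-`p` degree -/
theorem eq_zero_of_prime_to
    (h : ∀ (E : Type u) [Field E] [Algebra K E] [FiniteDimensional K E] [Algebra.IsSeparable K E],
      ¬ p ∣ Module.finrank K E →
      Subsingleton (EtCoh.H (Spec (CommRingCat.of E)) (EtCoh.const (Spec (CommRingCat.of E)) (ZMod p)) n))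
    (F : EtCoh.Ab (Spec (CommRingCat.of K))) (hF : p • 𝟙 F = 0) (x : EtCoh.H (Spec (CommRingCat.of K)) F n) :
    x = 0 := by
  have hp : p.Prime := Fact.out
  obtain ⟨i, hi⟩ := exists_Hpull_eq_zero K p n F hF x
  obtain ⟨P⟩ := (inferInstance : Nonempty (Sylow p (i.fld ≃ₐ[K] i.fld)))
  let E : IntermediateField K i.fld := IntermediateField.fixedField (P : Subgroup (i.fld ≃ₐ[K] i.fld))
  have hEM : Module.finrank E i.fld = Nat.card P := IntermediateField.finrank_fixedField_eq_card _
  have hKE : Module.finrank K E = (P : Subgroup (i.fld ≃ₐ[K] i.fld)).index := by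
    have h1 := Module.finrank_mul_finrank K E i.fld
    rw [hEM, ← IsGalois.card_aut_eq_finrank K i.fld,
      ← Subgroup.index_mul_card (P : Subgroup (i.fld ≃ₐ[K] i.fld))] at h1
    exact Nat.eq_of_mul_eq_mul_right Nat.card_pos h1
  have hdeg : ¬ p ∣ Module.finrank K E := hKE ▸ P.not_dvd_index
  haveI : IsGalois E i.fld := IsGalois.tower_top_of_isGalois K E i.fld
  haveI := Groth.L27.EtSite.preservesFiniteLimits_pull (specExt K E)
  obtain ⟨a, ha⟩ := P.2.exists_card_eq
  have h0 := hi i le_rfl E a (hEM.trans ha) (h E hdeg)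
  refine eq_zero_of_coprime ((Nat.Prime.coprime_iff_not_dvd hp).2 hdeg) x ?_ (finrank_nsmul_eq_zero K E F n x h0)
  rw [← comp_mk₀_nsmul, hF, Ext.mk₀_zero, Ext.comp_zero]

set_option maxHeartbeats 1000000 in
/-- sheaves killed by a prime: vanishing from the constants when all degrees are powers of `p` -/
theorem eq_zero_of_pro
    (hpro : ∀ (L : Type u) [Field L] [Algebra K L], FiniteDimensional K L → Algebra.IsSeparable K L →
      ∃ m : ℕ, Module.finrank K L = p ^ m)
    (h : Subsingleton (EtCoh.H (Spec (CommRingCat.of K)) (EtCoh.const (Spec (CommRingCat.of K)) (ZMod p)) n))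
    (F : EtCoh.Ab (Spec (CommRingCat.of K))) (hF : p • 𝟙 F = 0) (x : EtCoh.H (Spec (CommRingCat.of K)) F n) :
    x = 0 := by
  obtain ⟨i, hi⟩ := exists_Hpull_eq_zero K p n F hF x
  haveI := Groth.L27.EtSite.preservesFiniteLimits_pull (specExt K K)
  obtain ⟨a, ha⟩ := hpro i.fld inferInstance inferInstance
  have h1 := finrank_nsmul_eq_zero K K F n x (hi i le_rfl K a ha h)
  rwa [Module.finrank_self, one_nsmul] at h1

omit [Fact p.Prime]

/-- from killed by a prime to killed by a power -/
theorem eq_zero_of_killed_pow {X : Scheme.{u}}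
    (h : ∀ F : EtCoh.Ab X, p • 𝟙 F = 0 → ∀ x : EtCoh.H X F n, x = 0) :
    ∀ (a : ℕ) (F : EtCoh.Ab X), (p ^ a) • 𝟙 F = 0 → ∀ x : EtCoh.H X F n, x = 0
  | 0, F, hF, x => by
    rw [pow_zero, one_nsmul] at hF
    exact (Ext.comp_mk₀_id x).symm.trans (by rw [hF, Ext.mk₀_zero, Ext.comp_zero])
  | a + 1, F, hF, x => by
    let f : F ⟶ F := p • 𝟙 F
    let g : F ⟶ Abelian.image f := Abelian.factorThruImage f
    let S : ShortComplex (EtCoh.Ab X) := ShortComplex.mk (kernel.ι g) g (kernel.condition _)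
    have hS : S.ShortExact :=
      { exact := ShortComplex.exact_of_f_is_kernel _ (kernelIsKernel _)
        mono_f := inferInstanceAs (Mono (kernel.ι g))
        epi_g := inferInstanceAs (Epi g) }
    have hK : p • 𝟙 (kernel g) = 0 := by
      rw [← cancel_mono (kernel.ι g), Preadditive.nsmul_comp, Category.id_comp, zero_comp]
      have h1 : kernel.ι g ≫ f = p • kernel.ι g := by simp only [f, Preadditive.comp_nsmul, Category.comp_id]
      exact h1.symm.trans ((congrArg (kernel.ι g ≫ ·) (Abelian.image.fac f).symm).trans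
        (by rw [← Category.assoc, kernel.condition, zero_comp]))
    have hI : (p ^ a) • 𝟙 (Abelian.image f) = 0 := by
      rw [← cancel_epi g, Preadditive.comp_nsmul, Category.comp_id, comp_zero,
        ← cancel_mono (Abelian.image.ι f), Preadditive.nsmul_comp, zero_comp]
      show (p ^ a) • (g ≫ Abelian.image.ι f) = 0
      rw [show g ≫ Abelian.image.ι f = p • 𝟙 F from Abelian.image.fac f, ← mul_nsmul', ← pow_succ]
      exact hF
    have h2 : x.comp (Ext.mk₀ g) (add_zero n) = 0 := eq_zero_of_killed_pow h a _ hI _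
    obtain ⟨z, hz⟩ := Ext.covariant_sequence_exact₂ _ hS x h2
    rw [← hz, show z = 0 from h _ hK z, Ext.zero_comp]

include n in
/-- from killed by a power to primary classes of torsion sheaves -/
theorem eq_zero_of_torsion {X : Scheme.{u}} [CompactSpace X] [QuasiSeparatedSpace X] (hp : p.Prime)
    (h : ∀ (a : ℕ) (F : EtCoh.Ab X), (p ^ a) • 𝟙 F = 0 → ∀ x : EtCoh.H X F n, x = 0)
    (F : EtCoh.Ab X) (hF : EtCoh.IsTorsion F) (x : EtCoh.H X F n) (hx : ∃ m : ℕ, p ^ m • x = 0) : x = 0 := by
  haveI : AB5OfSize.{u, u} (EtCoh.Ab X) := AB5OfSize_shrink.{u, u, u + 1, u + 1} _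
  haveI : HasExactColimitsOfShape (AsSmall.{u} ℕ) (EtCoh.Ab X) := inferInstance
  obtain ⟨hc⟩ := Groth.L27.Colim.isColimit_torCocone F hF
  obtain ⟨j, η, rfl⟩ := (Groth.L27.Colim.commutes Groth.L27.Colim.good (EtCore.topIsTerminal X) (hT₀ := ⟨‹_›, ‹_›⟩) n
    (Groth.L27.Colim.torDiag F) (Groth.L27.Colim.torCocone F) hc).1 x
  obtain ⟨m, hm⟩ := hx
  let N := (AsSmall.down.obj j).factorial
  obtain ⟨a, b, hb, hN⟩ := Nat.exists_eq_pow_mul_and_not_dvd (Nat.factorial_pos (AsSmall.down.obj j)).ne' p hp.ne_one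
  let G := (Groth.L27.Colim.torDiag F).obj j
  have hG : N • 𝟙 G = 0 := by
    show N • 𝟙 (kernel (Groth.L27.Colim.facMap F (AsSmall.down.obj j))) = 0
    rw [← cancel_mono (kernel.ι (Groth.L27.Colim.facMap F (AsSmall.down.obj j))), Preadditive.nsmul_comp, Category.id_comp,
      zero_comp, ← kernel.condition (Groth.L27.Colim.facMap F (AsSmall.down.obj j)), Preadditive.comp_nsmul, Category.comp_id]
  have hbη : b • η = 0 := by
    let k : kernel ((p ^ a) • 𝟙 G) ⟶ G := kernel.ι _
    have hk : (p ^ a) • 𝟙 (kernel ((p ^ a) • 𝟙 G)) = 0 := by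
      rw [← cancel_mono k, Preadditive.nsmul_comp, Category.id_comp, zero_comp,
        ← kernel.condition ((p ^ a) • 𝟙 G), Preadditive.comp_nsmul, Category.comp_id]
    let l : G ⟶ kernel ((p ^ a) • 𝟙 G) := kernel.lift _ (b • 𝟙 G) (by
      rw [Preadditive.nsmul_comp, Category.id_comp, ← mul_nsmul', mul_comm, ← hN]
      exact hG)
    have hl : l ≫ k = b • 𝟙 G := kernel.lift_ι _ _ _
    let ξ : EtCoh.H X G n := η
    show b • ξ = 0
    rw [← comp_mk₀_nsmul b n ξ, ← hl, ← Ext.mk₀_comp_mk₀, ← Ext.comp_assoc_of_third_deg_zero,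
      h a _ hk (ξ.comp (Ext.mk₀ l) (add_zero n)), Ext.zero_comp]
  refine eq_zero_of_coprime (Nat.Coprime.pow_left m ((Nat.Prime.coprime_iff_not_dvd hp).2 hb)) _ hm ?_
  exact (map_nsmul (Sheaf.H.map ((Groth.L27.Colim.torCocone F).ι.app j) n) b η).symm.trans
    ((congrArg _ hbη).trans (map_zero _))

end Groth.L28.FieldCd
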