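import Groth.Agent.L28.FieldCd.Main
import Groth.Agent.L27.EtSite.Pull

/-!
Raising the degree of vanishing.
-/

set_option autoImplicit false
set_option linter.style.haveILetI false
set_option linter.unusedSectionVars false
set_option backward.isDefEq.respectTransparency.types false

universe u

open CategoryTheory CategoryTheory.Limits AlgebraicGeometry Opposite CategoryTheory.Abelian
open Groth.L28.EtTrace (specExt etale_specExt exists_killing)
open Groth.L27.ExtZero (epsE restrAdj unit_pullRestr)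

namespace Groth.L28.FieldCd

variable (K : Type u) [Field K]

theorem nsmul_id_map {X Y : Scheme.{u}} (G : EtCoh.Ab X ⥤ EtCoh.Ab Y) [G.Additive] {F : EtCoh.Ab X} {m : ℕ}
    (hF : m • 𝟙 F = 0) : m • 𝟙 (G.obj F) = 0 := by
  rw [← CategoryTheory.Functor.map_id, ← G.map_nsmul, hF, G.map_zero]

theorem nsmul_id_const {X : Scheme.{u}} (p : ℕ) : p • 𝟙 (EtCoh.const X (ZMod p)) = 0 := by
  have h : ∀ (V : X.Etaleᵒᵖ) (i : ULift.{u + 1} (ZMod p)), p • i = 0 := fun V i => ULift.ext _ _ (by
    show p • i.down = 0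
    rw [nsmul_eq_mul, ZMod.natCast_self, zero_mul])
  let M₀ : X.Etaleᵒᵖ ⥤ AddCommGrpCat.{u + 1} := (Functor.const _).obj (AddCommGrpCat.of (ULift.{u + 1} (ZMod p)))
  refine ObjectProperty.hom_ext _ (sheafify_hom_ext X.smallEtaleTopology _ _ (EtCoh.const X (ZMod p)).property ?_)
  refine NatTrans.ext (funext fun V => AddCommGrpCat.hom_ext (AddMonoidHom.ext fun i => ?_))
  refine (Groth.L27.Colim.hom_nsmul_app (𝟙 (EtCoh.const X (ZMod p))) p V.unop
    ((toSheafify X.smallEtaleTopology M₀).app V i)).trans ?_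
  exact ((map_nsmul ((toSheafify X.smallEtaleTopology M₀).app V).hom p i).symm.trans
    (congrArg _ (h V i))).trans (map_zero _)

set_option maxHeartbeats 1000000 in
/-- vanishing in one degree for sheaves killed by `p` gives vanishing in the next -/
theorem eq_zero_succ (p n : ℕ)
    (h : ∀ F : EtCoh.Ab (Spec (CommRingCat.of K)), p • 𝟙 F = 0 →
      ∀ x : EtCoh.H (Spec (CommRingCat.of K)) F n, x = 0)
    (F : EtCoh.Ab (Spec (CommRingCat.of K))) (hF : p • 𝟙 F = 0)
    (x : EtCoh.H (Spec (CommRingCat.of K)) F (n + 1)) : x = 0 := by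
  obtain ⟨L, _, _, _, _, hL⟩ := exists_killing K n F x
  let f := specExt K L
  haveI := etale_specExt K L
  haveI := Groth.L27.ExtZero.jCont f
  haveI := Groth.L27.EtSite.preservesFiniteLimits_pull f
  haveI : IsIntegralHom f := inferInstance
  haveI : Surjective f := ⟨fun y => ⟨(default : Spec (CommRingCat.of L)),
    Subsingleton.elim (α := Spec (CommRingCat.of K)) _ _⟩⟩
  let η := (EtCoh.pullPushAdj f).unit.app F
  haveI : Mono η := by
    haveI : Mono ((restrAdj f).unit.app F) := by
      suffices ∀ V : (Spec (CommRingCat.of K)).Etaleᵒᵖ, Mono (((restrAdj f).unit.app F).hom.app V) from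
        haveI : Mono ((restrAdj f).unit.app F).hom := NatTrans.mono_of_mono_app _
        (sheafToPresheaf _ _).mono_of_mono_map (f := (restrAdj f).unit.app F) ‹_›
      intro V
      refine (AddCommGrpCat.mono_iff_injective _).2 fun s t hst => ?_
      haveI : Surjective (epsE f V.unop).left := inferInstanceAs (Surjective (pullback.fst V.unop.hom f))
      exact Groth.L28.EtCartan.eq_of_surjective F (epsE f V.unop) hst
    haveI : Mono (η ≫ (EtCoh.push f).map ((Groth.L27.ExtZero.pullRestr f).hom.app F)) := by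
      rw [unit_pullRestr f F]
      infer_instance
    exact mono_of_mono η ((EtCoh.push f).map ((Groth.L27.ExtZero.pullRestr f).hom.app F))
  let S : ShortComplex (EtCoh.Ab (Spec (CommRingCat.of K))) := ShortComplex.mk η (cokernel.π η) (cokernel.condition _)
  have hS : S.ShortExact :=
    { exact := ShortComplex.exact_of_g_is_cokernel _ (cokernelIsCokernel _)
      mono_f := inferInstanceAs (Mono η)
      epi_g := inferInstanceAs (Epi (cokernel.π η)) }
  have hb := Groth.L27.EtSite.bijective_HofPush f ((EtCoh.pull f).obj F)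
    (fun r hr => Groth.L27.EtSite.isZero_Rpush_of_propB f (Groth.L27.EtSite.propB_of_isIntegralHom f) _ r hr) (n + 1)
  have hη : x.comp (Ext.mk₀ η) (add_zero _) = 0 :=
    hb.1 (((Groth.L27.EtSite.Hpull_apply f F (n + 1) x).symm.trans hL).trans (map_zero _).symm)
  obtain ⟨z, hz⟩ := Ext.covariant_sequence_exact₁ _ hS x hη rfl
  haveI : (EtCoh.pull f).Additive := (EtCoh.pullPushAdj f).left_adjoint_additive
  have hC : p • 𝟙 S.X₃ = 0 := by
    have h2 : p • 𝟙 S.X₂ = 0 := nsmul_id_map (EtCoh.push f) (nsmul_id_map (EtCoh.pull f) hF)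
    haveI := hS.epi_g
    rw [← cancel_epi S.g, Preadditive.comp_nsmul, Category.comp_id, comp_zero,
      ← Category.id_comp S.g, ← Preadditive.nsmul_comp, h2, zero_comp]
  rw [← hz, h _ hC z, Ext.zero_comp]

/-- vanishing in all higher degrees -/
theorem eq_zero_of_le (p n : ℕ)
    (h : ∀ F : EtCoh.Ab (Spec (CommRingCat.of K)), p • 𝟙 F = 0 →
      ∀ x : EtCoh.H (Spec (CommRingCat.of K)) F n, x = 0) (q : ℕ) (hq : n ≤ q) :
    ∀ F : EtCoh.Ab (Spec (CommRingCat.of K)), p • 𝟙 F = 0 → ∀ x : EtCoh.H (Spec (CommRingCat.of K)) F q, x = 0 := by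
  induction q, hq using Nat.le_induction with
  | base => exact h
  | succ q _ ih => exact eq_zero_succ K p q ih

/-- cohomological dimension from vanishing on sheaves killed by `p` in one degree -/
theorem cd_le (p n : ℕ) [Fact p.Prime]
    (h : ∀ F : EtCoh.Ab (Spec (CommRingCat.of K)), p • 𝟙 F = 0 →
      ∀ x : EtCoh.H (Spec (CommRingCat.of K)) F (n + 1), x = 0)
    (F : EtCoh.Ab (Spec (CommRingCat.of K))) (hF : EtCoh.IsTorsion F) (q : ℕ) (hq : n < q)
    (x : EtCoh.H (Spec (CommRingCat.of K)) F q) (hx : ∃ m : ℕ, p ^ m • x = 0) : x = 0 :=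
  eq_zero_of_torsion p q Fact.out
    (fun a G hG => eq_zero_of_killed_pow p q (eq_zero_of_le K p (n + 1) h q hq) a G hG) F hF x hx

end Groth.L28.FieldCd
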