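import Groth.Agent.L28.EtTrace.NormConv
import Groth.Agent.L28.FieldCd.CdOne

set_option autoImplicit false
set_option linter.style.haveILetI false
set_option backward.isDefEq.respectTransparency.types false

universe u

open CategoryTheory CategoryTheory.Limits AlgebraicGeometry Opposite CategoryTheory.Abelian
open Groth.L28.EtTrace (specExt subsingleton_gm_one)
open Groth.L27.LimCoh (δH exists_δH)

namespace Groth.L28.FieldCd

variable (p : ℕ) [Fact p.Prime]

/-- no `p`-primary Brauer classes when the dimension is at most one -/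
theorem gm_two_eq_zero_of_cd (E : Type u) [Field E] (hp : (p : E) ≠ 0)
    (hcd : ∀ (F : EtCoh.Ab (Spec (CommRingCat.of E))), EtCoh.IsTorsion F → ∀ q : ℕ, 1 < q →
      ∀ x : EtCoh.H (Spec (CommRingCat.of E)) F q, (∃ m : ℕ, p ^ m • x = 0) → x = 0)
    (x : EtCoh.H (Spec (CommRingCat.of E)) (EtCoh.Gm (Spec (CommRingCat.of E))) 2)
    (hx : ∃ m : ℕ, p ^ m • x = 0) : x = 0 := by
  let X := Spec (CommRingCat.of E)
  have hpp : p.Prime := Fact.out
  have hu : IsUnit (p : Γ(X, ⊤)) := by
    rw [← map_natCast (Scheme.ΓSpecIso (CommRingCat.of E)).inv.hom]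
    exact (isUnit_iff_ne_zero.2 hp).map _
  haveI : Mono (EtCoh.muι X p) := inferInstanceAs (Mono (kernel.ι (EtCoh.powMap X p)))
  have hkill : p • 𝟙 (EtCoh.mu X p) = 0 := by
    rw [← cancel_mono (EtCoh.muι X p), Preadditive.nsmul_comp, Category.id_comp, zero_comp,
      ← show EtCoh.muι X p ≫ EtCoh.powMap X p = 0 from kernel.condition _, EtCoh.powMap, Preadditive.comp_nsmul,
      Category.comp_id]
  have h1 : ∀ y : EtCoh.H X (EtCoh.Gm X) 2, p • y = 0 → y = 0 := fun y hy => by
    have hmem : y ∈ Set.range ⇑((EtCoh.HF X 2).map (EtCoh.muι X p)) := by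
      rw [Groth.L28.GmTorsion.range_HF_muι p hu 2]
      exact hy
    obtain ⟨z, hz⟩ := hmem
    have hz0 : z = 0 := hcd _ (Groth.L28.EtTrace.isTorsion_of_nsmul hpp.pos hkill) 2 (by omega) z ⟨1, by
      rw [pow_one, ← Groth.L28.EtTrace.comp_mk₀_nsmul, hkill, Ext.mk₀_zero, Ext.comp_zero]⟩
    rw [← hz, hz0]
    exact map_zero ((EtCoh.HF X 2).map (EtCoh.muι X p)).hom
  obtain ⟨m, hm⟩ := hx
  induction m generalizing x with
  | zero => simpa using hm
  | succ m ih => exact ih x (h1 _ (by rw [← mul_nsmul', ← pow_succ']; exact hm))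

end Groth.L28.FieldCd
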