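import Groth.Agent.L28.ColimBig.Cohomology
import Groth.Agent.L27.Colim.Etale
import Groth.Agent.L27.LimCoh.HMaps
import Mathlib.CategoryTheory.Abelian.GrothendieckAxioms.Sheaf
import Mathlib.CategoryTheory.Abelian.GrothendieckCategory.Basic

/-!
Successive quotients by images of a family of test objects, and classes dying in them.
-/

set_option autoImplicit false
set_option linter.style.haveILetI false
set_option linter.unusedSectionVars false
set_option backward.isDefEq.respectTransparency.types false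

universe u

open CategoryTheory CategoryTheory.Limits AlgebraicGeometry Opposite CategoryTheory.Abelian

namespace Groth.L28.FieldCd

variable {X : Scheme.{u}} {ι : Type (u + 1)} (M : ι → EtCoh.Ab X) (F : EtCoh.Ab X)

/-- quotients of `F` obtained by successively dividing by images of test objects -/
inductive Dev : ∀ {Q : EtCoh.Ab X}, (F ⟶ Q) → Prop
  | refl : Dev (𝟙 F)
  | step {Q : EtCoh.Ab X} {π : F ⟶ Q} (h : Dev π) (i : ι) (e : M i ⟶ Q) : Dev (π ≫ cokernel.π e)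

variable {M F}

theorem Dev.epi {Q : EtCoh.Ab X} {π : F ⟶ Q} (h : Dev M F π) : Epi π := by
  induction h with
  | refl => infer_instance
  | step h i e ih => haveI := ih; exact epi_comp _ _

/-- successive quotients are directed -/
theorem Dev.exists_join {Q₁ : EtCoh.Ab X} {π₁ : F ⟶ Q₁} (h₁ : Dev M F π₁) {Q₂ : EtCoh.Ab X} {π₂ : F ⟶ Q₂}
    (h₂ : Dev M F π₂) : ∃ (Q : EtCoh.Ab X) (π : F ⟶ Q) (a : Q₁ ⟶ Q) (b : Q₂ ⟶ Q),
      Dev M F π ∧ π₁ ≫ a = π ∧ π₂ ≫ b = π := by
  induction h₂ with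
  | refl => exact ⟨Q₁, π₁, 𝟙 _, π₁, h₁, Category.comp_id _, Category.id_comp _⟩
  | @step Q₂ π₂ h₂ i e ih =>
    obtain ⟨Q, π, a, b, h, ha, hb⟩ := ih
    exact ⟨_, π ≫ cokernel.π (e ≫ b), a ≫ cokernel.π (e ≫ b),
      cokernel.desc e (b ≫ cokernel.π (e ≫ b)) (by rw [← Category.assoc, cokernel.condition]), h.step i (e ≫ b),
      by rw [← Category.assoc, ha], by rw [Category.assoc, cokernel.π_desc, ← Category.assoc, hb]⟩

/-- classes vanishing in a quotient vanish when the kernels of the steps are acyclic -/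
theorem Dev.eq_zero {n : ℕ}
    (hM : ∀ (Q : EtCoh.Ab X) (π : F ⟶ Q), Dev M F π → ∀ (i : ι) (e : M i ⟶ Q) (x : EtCoh.H X Q n),
      (EtCoh.HF X n).map (cokernel.π e) x = 0 → x = 0)
    {Q : EtCoh.Ab X} {π : F ⟶ Q} (h : Dev M F π) (x : EtCoh.H X F n) (hx : (EtCoh.HF X n).map π x = 0) : x = 0 := by
  induction h with
  | refl => exact (congrArg (fun k => k.hom x) ((EtCoh.HF X n).map_id F)).symm.trans hx
  | @step Q π h i e ih =>
    rw [Groth.L27.LimCoh.HF_map_comp] at hx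
    exact ih (hM Q π h i e _ hx)

variable (M F)

/-- the codes of the quotients of given length -/
noncomputable def stages : ℕ → Σ T : Type (u + 1), T → Σ Q : EtCoh.Ab X, (F ⟶ Q)
  | 0 => ⟨PUnit, fun _ => ⟨F, 𝟙 F⟩⟩
  | m + 1 => ⟨Σ t : (stages m).1, Σ i : ι, (M i ⟶ ((stages m).2 t).1),
      fun t => ⟨cokernel t.2.2, ((stages m).2 t.1).2 ≫ cokernel.π t.2.2⟩⟩

/-- the codes of the quotients -/
def Stage : Type (u + 1) := Σ m, (stages M F m).1

/-- the quotient object -/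
noncomputable abbrev Stage.Q (a : Stage M F) : EtCoh.Ab X := ((stages M F a.1).2 a.2).1

/-- the quotient map -/
noncomputable abbrev Stage.π (a : Stage M F) : F ⟶ Stage.Q M F a := ((stages M F a.1).2 a.2).2

theorem Stage.dev : ∀ (m : ℕ) (t : (stages M F m).1), Dev M F ((stages M F m).2 t).2
  | 0, _ => Dev.refl
  | m + 1, t => (Stage.dev m t.1).step t.2.1 t.2.2

theorem exists_stage {Q : EtCoh.Ab X} {π : F ⟶ Q} (h : Dev M F π) :
    ∃ a : Stage M F, (⟨Q, π⟩ : Σ Q : EtCoh.Ab X, (F ⟶ Q)) = (stages M F a.1).2 a.2 := by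
  induction h with
  | refl => exact ⟨⟨0, PUnit.unit⟩, rfl⟩
  | @step Q π h i e ih =>
    obtain ⟨⟨m, t⟩, ht⟩ := ih
    simp only at ht
    have key : ∀ (s : Σ Q : EtCoh.Ab X, (F ⟶ Q)) (hs : (stages M F m).2 t = s) (e : M i ⟶ s.1),
        ∃ a : Stage M F, (⟨cokernel e, s.2 ≫ cokernel.π e⟩ : Σ Q : EtCoh.Ab X, (F ⟶ Q)) = (stages M F a.1).2 a.2 := by
      rintro _ rfl e
      exact ⟨⟨m + 1, ⟨t, i, e⟩⟩, rfl⟩
    exact key ⟨Q, π⟩ ht.symm e

instance : Nonempty (Stage M F) := ⟨⟨0, PUnit.unit⟩⟩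

instance : Preorder (Stage M F) where
  le a b := ∃ f : Stage.Q M F a ⟶ Stage.Q M F b, Stage.π M F a ≫ f = Stage.π M F b
  le_refl a := ⟨𝟙 _, Category.comp_id _⟩
  le_trans _ _ _ := fun ⟨f, hf⟩ ⟨g, hg⟩ => ⟨f ≫ g, by rw [← Category.assoc, hf, hg]⟩

instance : IsDirectedOrder (Stage M F) where
  directed a b := by
    obtain ⟨Q, π, f, g, h, hf, hg⟩ := (Stage.dev M F a.1 a.2).exists_join (Stage.dev M F b.1 b.2)
    obtain ⟨c, hc⟩ := exists_stage M F h
    have key : ∀ (s : Σ Q : EtCoh.Ab X, (F ⟶ Q)), (⟨Q, π⟩ : Σ Q : EtCoh.Ab X, (F ⟶ Q)) = s →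
        (∃ f, Stage.π M F a ≫ f = s.2) ∧ ∃ g, Stage.π M F b ≫ g = s.2 := by
      rintro _ rfl
      exact ⟨⟨f, hf⟩, ⟨g, hg⟩⟩
    exact ⟨c, (key _ hc).1, (key _ hc).2⟩

/-- the diagram of the quotients -/
noncomputable def diag : Stage M F ⥤ EtCoh.Ab X where
  obj a := Stage.Q M F a
  map h := (leOfHom h).choose
  map_id a := by
    haveI := (Stage.dev M F a.1 a.2).epi
    rw [← cancel_epi (Stage.π M F a), (leOfHom (𝟙 a)).choose_spec, Category.comp_id]
  map_comp {a b c} f g := by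
    haveI := (Stage.dev M F a.1 a.2).epi
    rw [← cancel_epi (Stage.π M F a), (leOfHom (f ≫ g)).choose_spec, ← Category.assoc,
      (leOfHom f).choose_spec, (leOfHom g).choose_spec]

variable {M F}

/-- when every section dies locally at some stage every class dies at some stage -/
theorem exists_dev_eq_zero [CompactSpace X] [QuasiSeparatedSpace X]
    (h : ∀ (U : X.Etale) (s : F.obj.obj (op U)) (z : U.left), ∃ (V : X.Etale) (g : V ⟶ U) (v : V.left),
      g.left v = z ∧ ∃ (Q : EtCoh.Ab X) (π : F ⟶ Q), Dev M F π ∧ π.hom.app (op V) (F.obj.map g.op s) = 0)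
    (n : ℕ) (x : EtCoh.H X F n) :
    ∃ (Q : EtCoh.Ab X) (π : F ⟶ Q), Dev M F π ∧ (EtCoh.HF X n).map π x = 0 := by
  haveI : HasExactColimitsOfShape (Stage M F) (EtCoh.Ab X) := inferInstance
  let o : Stage M F := ⟨0, PUnit.unit⟩
  let ι₀ : F ⟶ colimit (diag M F) := colimit.ι (diag M F) o
  have hι : ι₀ = 0 := by
    refine ObjectProperty.hom_ext _ (NatTrans.ext (funext fun U => AddCommGrpCat.hom_ext (AddMonoidHom.ext fun s => ?_)))
    obtain ⟨U⟩ := U
    show ι₀.hom.app (op U) s = 0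
    refine Groth.L27.EtSite.ext_of_locally (colimit (diag M F)) fun z => ?_
    obtain ⟨V, g, v, hv, Q, π, hπ, h0⟩ := h U s z
    refine ⟨V, g, v, hv, ?_⟩
    rw [map_zero, ← NatTrans.naturality_apply ι₀.hom g.op s]
    obtain ⟨a, ha⟩ := exists_stage M F hπ
    have key : ∀ t : Σ Q : EtCoh.Ab X, (F ⟶ Q), (⟨Q, π⟩ : Σ Q : EtCoh.Ab X, (F ⟶ Q)) = t →
        t.2.hom.app (op V) (F.obj.map g.op s) = 0 := by
      rintro _ rfl
      exact h0
    have hle : o ≤ a := ⟨Stage.π M F a, Category.id_comp _⟩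
    have hm : (diag M F).map (homOfLE hle) = Stage.π M F a :=
      (Category.id_comp _).symm.trans (leOfHom (homOfLE hle)).choose_spec
    rw [show ι₀ = Stage.π M F a ≫ colimit.ι (diag M F) a by rw [← hm]; exact (colimit.w _ _).symm]
    exact (congrArg ((colimit.ι (diag M F) a).hom.app (op V)) (key _ ha)).trans (map_zero _)
  obtain ⟨k, f, hk⟩ := (Groth.L28.ColimBig.commutes Groth.L27.Colim.good (EtCore.topIsTerminal X) ⟨‹_›, ‹_›⟩ n
    (diag M F) (colimit.cocone _) (colimit.isColimit _)).2 o x (by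
      show Sheaf.H.map ι₀ n x = 0
      rw [hι, ← Groth.L27.LimCoh.HF_map_eq, Groth.L27.EtSite.HF_map_apply, Ext.mk₀_zero, Ext.comp_zero])
  refine ⟨_, Stage.π M F k, Stage.dev M F k.1 k.2, ?_⟩
  rw [show Stage.π M F k = (diag M F).map f from ((leOfHom f).choose_spec.symm.trans (Category.id_comp _)),
    Groth.L27.LimCoh.HF_map_eq]
  exact hk

end Groth.L28.FieldCd
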