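import Groth.Agent.L28.FieldCd.Dev
import Groth.Agent.L27.Colim.Torsion
import Groth.Agent.L28.EtTrace.GaloisAct
import Groth.Agent.L28.EtCartan.Criterion
import Mathlib.GroupTheory.PGroup
import Mathlib.Algebra.Field.ZMod
import Mathlib.FieldTheory.Galois.Basic

/-!
Sections over a Galois extension of prime power degree die after dividing by constant subsheaves.
-/

set_option autoImplicit false
set_option linter.style.haveILetI false
set_option linter.unusedSectionVars false
set_option backward.isDefEq.respectTransparency.types false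

universe u

open CategoryTheory CategoryTheory.Limits AlgebraicGeometry Opposite CategoryTheory.Abelian
open Groth.L28.ProEt.Cech (res res_res)
open Groth.L28.EtCartan (eq_of_surjective app_exact)
open Groth.L28.EtTrace (galObj act specExt exists_descend_act act_mul act_one)

namespace Groth.L28.FieldCd

variable (E : Type u) [Field E] (p : ℕ) [Fact p.Prime]

/-- the test objects: the constant sheaf of prime order -/
noncomputable abbrev constM : PUnit.{u + 2} → EtCoh.Ab (Spec (CommRingCat.of E)) :=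
  fun _ => EtCoh.const (Spec (CommRingCat.of E)) (ZMod p)

variable {E p}

/-- the presheaf map out of the constants given by a torsion global section -/
noncomputable def secPre {Q : EtCoh.Ab (Spec (CommRingCat.of E))}
    (t : Q.obj.obj (op (EtCoh.top (Spec (CommRingCat.of E))))) (ht : p • t = 0) :
    (Functor.const _).obj (AddCommGrpCat.of (ULift.{u + 1} (ZMod p))) ⟶ Q.obj where
  app V := AddCommGrpCat.ofHom
    ((Q.obj.map ((EtCore.topIsTerminal _).from V.unop).op).hom.comp
      ((ZMod.lift p ⟨zmultiplesHom _ t, (natCast_zsmul t p).trans ht⟩).comp AddEquiv.ulift.toAddMonoidHom))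
  naturality {V _} g := AddCommGrpCat.hom_ext (AddMonoidHom.ext fun _ =>
    ((res_res Q.obj g.unop ((EtCore.topIsTerminal _).from V.unop) _).trans
      (congrArg (fun k => res Q.obj k _) ((EtCore.topIsTerminal _).hom_ext _ _))).symm)

/-- the map out of the constant sheaf given by a torsion global section -/
noncomputable def secHom {Q : EtCoh.Ab (Spec (CommRingCat.of E))}
    (t : Q.obj.obj (op (EtCoh.top (Spec (CommRingCat.of E))))) (ht : p • t = 0) :
    EtCoh.const (Spec (CommRingCat.of E)) (ZMod p) ⟶ Q :=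
  ⟨sheafifyLift _ (secPre t ht) Q.property⟩

theorem secHom_toSheafify {Q : EtCoh.Ab (Spec (CommRingCat.of E))}
    (t : Q.obj.obj (op (EtCoh.top (Spec (CommRingCat.of E))))) (ht : p • t = 0)
    (V : (Spec (CommRingCat.of E)).Etale) (i : ULift.{u + 1} (ZMod p)) :
    (secHom t ht).hom.app (op V) ((toSheafify _ ((Functor.const _).obj
        (AddCommGrpCat.of (ULift.{u + 1} (ZMod p))))).app (op V) i) = (secPre t ht).app (op V) i :=
  congrArg (fun k : (Functor.const _).obj (AddCommGrpCat.of (ULift.{u + 1} (ZMod p))) ⟶ Q.obj => k.app (op V) i)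
    (toSheafify_sheafifyLift _ (secPre t ht) Q.property)

theorem secPre_one {Q : EtCoh.Ab (Spec (CommRingCat.of E))}
    (t : Q.obj.obj (op (EtCoh.top (Spec (CommRingCat.of E))))) (ht : p • t = 0) :
    (secPre t ht).app (op (EtCoh.top _)) (ULift.up 1) = t := by
  show res Q.obj ((EtCore.topIsTerminal _).from (EtCoh.top (Spec (CommRingCat.of E))))
    (ZMod.lift p (A := Q.obj.obj (op (EtCoh.top (Spec (CommRingCat.of E))))) ⟨zmultiplesHom _ t, (natCast_zsmul t p).trans ht⟩ (1 : ZMod p)) = t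
  rw [show (1 : ZMod p) = ((1 : ℤ) : ZMod p) by norm_num, ZMod.lift_coe,
    (EtCore.topIsTerminal _).hom_ext ((EtCore.topIsTerminal _).from (EtCoh.top _)) (𝟙 _)]
  exact (ConcreteCategory.congr_hom (Q.obj.map_id _) _).trans (one_zsmul t)

theorem exists_nsmul_eq (a b : ZMod p) (ha : a ≠ 0) : ∃ m : ℕ, b = m • a :=
  ⟨(b / a).val, by rw [nsmul_eq_mul, ZMod.natCast_zmod_val]; exact (div_mul_cancel₀ b ha).symm⟩

/-- a nonzero map out of the constant sheaf of prime order is a monomorphism -/
theorem mono_of_ne_zero {Q : EtCoh.Ab (Spec (CommRingCat.of E))}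
    (e : EtCoh.const (Spec (CommRingCat.of E)) (ZMod p) ⟶ Q) (he : e ≠ 0) : Mono e := by
  let M₀ : (Spec (CommRingCat.of E)).Etaleᵒᵖ ⥤ AddCommGrpCat.{u + 1} :=
    (Functor.const _).obj (AddCommGrpCat.of (ULift.{u + 1} (ZMod p)))
  let η : M₀ ⟶ (EtCoh.const (Spec (CommRingCat.of E)) (ZMod p)).obj := toSheafify _ M₀
  suffices h : ∀ (V : (Spec (CommRingCat.of E)).Etale) (σ : (EtCoh.const (Spec (CommRingCat.of E)) (ZMod p)).obj.obj (op V)),
      e.hom.app (op V) σ = 0 → σ = 0 by
    haveI : ∀ V, Mono (e.hom.app V) := fun V => (AddCommGrpCat.mono_iff_injective _).2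
      ((injective_iff_map_eq_zero _).2 fun σ => h V.unop σ)
    haveI : Mono e.hom := NatTrans.mono_of_mono_app _
    exact (sheafToPresheaf _ _).mono_of_mono_map (f := e) (inferInstanceAs (Mono e.hom))
  intro V σ hσ
  haveI : Presheaf.IsLocallySurjective (Spec (CommRingCat.of E)).smallEtaleTopology η :=
    inferInstanceAs (Presheaf.IsLocallySurjective _ (toSheafify (Spec (CommRingCat.of E)).smallEtaleTopology M₀))
  refine Groth.L27.EtSite.ext_of_locally _ fun z => ?_
  obtain ⟨W, g, w, ⟨i, hi⟩, hw⟩ := (Groth.L27.EtSite.mem_topology_iff _).1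
    (Presheaf.imageSieve_mem _ η σ) z
  refine ⟨W, g, w, hw, ?_⟩
  rw [map_zero, ← hi]
  suffices h0 : i.down = 0 by rw [show i = 0 from ULift.ext _ _ h0]; exact map_zero (η.app (op W)).hom
  by_contra hne
  refine he (ObjectProperty.hom_ext _ (sheafify_hom_ext _ _ _ Q.property
    (NatTrans.ext (funext fun U => AddCommGrpCat.hom_ext (AddMonoidHom.ext fun j => ?_)))))
  show e.hom.app U (η.app U j) = 0
  let T := EtCoh.top (Spec (CommRingCat.of E))
  let f : W ⟶ T := (EtCore.topIsTerminal _).from W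
  let h : U.unop ⟶ T := (EtCore.topIsTerminal _).from U.unop
  haveI : Surjective f.left := ⟨fun x => ⟨w, Subsingleton.elim (α := Spec (CommRingCat.of E)) _ _⟩⟩
  have hn : ∀ {A B : (Spec (CommRingCat.of E)).Etale} (k : A ⟶ B) (a : ULift.{u + 1} (ZMod p)),
      res Q.obj k (e.hom.app (op B) (η.app (op B) a)) = e.hom.app (op A) (η.app (op A) a) :=
    fun k a => (NatTrans.naturality_apply (η ≫ e.hom) k.op a).symm
  have h1 : e.hom.app (op T) (η.app (op T) i) = 0 := eq_of_surjective Q f (by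
    rw [map_zero]
    refine (hn f i).trans ?_
    rw [hi]
    refine (NatTrans.naturality_apply e.hom g.op σ).trans ?_
    rw [hσ]
    exact map_zero _)
  have h2 : e.hom.app (op T) (η.app (op T) j) = 0 := by
    obtain ⟨m, hm'⟩ := exists_nsmul_eq (ULift.down i : ZMod p) (ULift.down j : ZMod p) hne
    have hm : j = m • i := ULift.ext _ _ hm'
    rw [hm]
    refine ((congrArg (e.hom.app (op T)) (map_nsmul (η.app (op T)).hom m i)).trans
      (map_nsmul (e.hom.app (op T)).hom m _)).trans ?_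
    exact (congrArg (m • ·) h1).trans (nsmul_zero m)
  rw [← hn h j]
  exact (congrArg (res Q.obj h) h2).trans (map_zero (Q.obj.map h.op).hom)

/-- dividing by an image of the constant sheaf is injective on cohomology when the constants are acyclic -/
theorem step_injective {n : ℕ}
    [Subsingleton (EtCoh.H (Spec (CommRingCat.of E)) (EtCoh.const (Spec (CommRingCat.of E)) (ZMod p)) n)]
    {Q : EtCoh.Ab (Spec (CommRingCat.of E))} (e : EtCoh.const (Spec (CommRingCat.of E)) (ZMod p) ⟶ Q)
    (x : EtCoh.H (Spec (CommRingCat.of E)) Q n) (hx : (EtCoh.HF _ n).map (cokernel.π e) x = 0) : x = 0 := by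
  by_cases he : e = 0
  · subst he
    haveI : IsIso (cokernel.π (0 : EtCoh.const (Spec (CommRingCat.of E)) (ZMod p) ⟶ Q)) := cokernel.π_of_zero rfl
    exact (ConcreteCategory.bijective_of_isIso ((EtCoh.HF (Spec (CommRingCat.of E)) n).map
      (cokernel.π (0 : EtCoh.const (Spec (CommRingCat.of E)) (ZMod p) ⟶ Q)))).1 (hx.trans (map_zero _).symm)
  haveI := mono_of_ne_zero e he
  let S : ShortComplex (EtCoh.Ab (Spec (CommRingCat.of E))) := ShortComplex.mk e (cokernel.π e) (cokernel.condition _)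
  have hS : S.ShortExact :=
    { exact := ShortComplex.exact_of_g_is_cokernel _ (cokernelIsCokernel _)
      mono_f := inferInstanceAs (Mono e)
      epi_g := inferInstanceAs (Epi (cokernel.π e)) }
  rw [Groth.L27.EtSite.HF_map_apply] at hx
  obtain ⟨y, hy⟩ := Ext.covariant_sequence_exact₂ _ hS x hx
  rw [← hy, Subsingleton.elim (α := EtCoh.H _ (EtCoh.const (Spec (CommRingCat.of E)) (ZMod p)) n) y 0, Ext.zero_comp]

theorem nsmul_eq_zero_of_dev {ι : Type (u + 1)} {X : Scheme.{u}} {M : ι → EtCoh.Ab X} {F Q : EtCoh.Ab X} {m : ℕ}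
    (hF : m • 𝟙 F = 0) {π : F ⟶ Q} (h : Dev M F π) : m • 𝟙 Q = 0 := by
  haveI := h.epi
  rw [← cancel_epi π, Preadditive.comp_nsmul, Category.comp_id, comp_zero, ← Category.id_comp π,
    ← Preadditive.nsmul_comp, hF, zero_comp]

theorem nsmul_app_eq_zero {X : Scheme.{u}} {Q : EtCoh.Ab X} {m : ℕ} (h : m • 𝟙 Q = 0) {U : X.Etale}
    (t : Q.obj.obj (op U)) : m • t = 0 :=
  (Groth.L27.Colim.hom_nsmul_app (𝟙 Q) m U t).symm.trans (congrArg (fun k : Q ⟶ Q => k.hom.app (op U) t) h)

variable {M : Type u} [Field M] [Algebra E M] [FiniteDimensional E M] [IsGalois E M]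

/-- the action of an automorphism on sections -/
noncomputable def T (Q : EtCoh.Ab (Spec (CommRingCat.of E))) (g : M ≃ₐ[E] M) :
    Q.obj.obj (op (galObj E M)) →+ Q.obj.obj (op (galObj E M)) :=
  (Q.obj.map (act E M g).op).hom

theorem exists_fixed [Fintype (M ≃ₐ[E] M)] {a : ℕ} (hG : Module.finrank E M = p ^ a)
    {Q : EtCoh.Ab (Spec (CommRingCat.of E))} (ψ : ((M ≃ₐ[E] M) → ZMod p) →+ Q.obj.obj (op (galObj E M)))
    (hψ : ∀ g c, ∃ c', T Q g (ψ c) = ψ c') (hne : ψ ≠ 0) :
    ∃ c, ψ c ≠ 0 ∧ ∀ g, T Q g (ψ c) = ψ c := by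
  let W := ψ.range
  letI : MulAction (M ≃ₐ[E] M) W :=
    { smul := fun g w => ⟨T Q g w, by
        obtain ⟨c, hc⟩ := w.2
        obtain ⟨c', hc'⟩ := hψ g c
        exact ⟨c', hc'.symm.trans (congrArg (T Q g) hc)⟩⟩
      one_smul := fun w => Subtype.ext (by
        show res Q.obj (act E M 1) (w : Q.obj.obj (op (galObj E M))) = w
        rw [act_one]
        exact ConcreteCategory.congr_hom (Q.obj.map_id _) _)
      mul_smul := fun g h w => Subtype.ext (by
        show res Q.obj (act E M (g * h)) (w : Q.obj.obj (op (galObj E M))) = res Q.obj (act E M g) (res Q.obj (act E M h) w)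
        rw [res_res, act_mul]) }
  haveI : Finite W := Finite.of_surjective ψ.rangeRestrict ψ.rangeRestrict_surjective
  haveI : Nontrivial W := by
    obtain ⟨c, hc⟩ := DFunLike.ne_iff.1 hne
    exact ⟨⟨ψ c, c, rfl⟩, 0, fun e => hc (congrArg Subtype.val e)⟩
  have hp : ∀ w : W, p • w = 0 := fun w => by
    obtain ⟨c, hc⟩ := w.2
    refine Subtype.ext ?_
    show p • (w : Q.obj.obj (op (galObj E M))) = 0
    rw [← hc, ← map_nsmul, show p • c = 0 from funext fun i => by simp, map_zero]
  have hdvd : p ∣ Nat.card W := by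
    obtain ⟨w, hw⟩ := exists_ne (0 : W)
    rw [← addOrderOf_eq_prime (hp w) hw]
    exact addOrderOf_dvd_natCard w
  obtain ⟨w, hw, hw0⟩ := (IsPGroup.of_card (p := p) (n := a) ((IsGalois.card_aut_eq_finrank E M).trans hG)
    ).exists_fixed_point_of_prime_dvd_card_of_fixed_point W hdvd (a := 0) (fun g => Subtype.ext (map_zero (T Q g)))
  obtain ⟨c, hc⟩ := w.2
  exact ⟨c, fun h => hw0 (Subtype.ext (h.symm.trans hc)), fun g => by
    rw [hc]
    exact congrArg Subtype.val (hw g)⟩

theorem exists_kill_aux [Fintype (M ≃ₐ[E] M)] {a : ℕ} (hG : Module.finrank E M = p ^ a)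
    {F : EtCoh.Ab (Spec (CommRingCat.of E))} (hF : p • 𝟙 F = 0) :
    ∀ (k : ℕ) {Q : EtCoh.Ab (Spec (CommRingCat.of E))} (π : F ⟶ Q), Dev (constM E p) F π →
      ∀ ψ : ((M ≃ₐ[E] M) → ZMod p) →+ Q.obj.obj (op (galObj E M)),
        Nat.card ψ.range ≤ k → (∀ g c, ∃ c', T Q g (ψ c) = ψ c') →
      ∃ (Q' : EtCoh.Ab (Spec (CommRingCat.of E))) (φ : Q ⟶ Q'), Dev (constM E p) F (π ≫ φ) ∧
        ∀ c, φ.hom.app _ (ψ c) = 0 := by
  intro k
  induction k with
  | zero =>
    intro Q π hπ ψ hk _
    haveI : Finite ψ.range := Finite.of_surjective ψ.rangeRestrict ψ.rangeRestrict_surjective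
    exact absurd hk (Nat.not_le.2 Nat.card_pos)
  | succ k ih =>
    intro Q π hπ ψ hk hψ
    by_cases hne : ψ = 0
    · exact ⟨Q, 𝟙 Q, by rwa [Category.comp_id], fun c => by rw [hne]; exact map_zero _⟩
    obtain ⟨c₀, hc₀, hfix⟩ := exists_fixed hG ψ hψ hne
    let top := (EtCore.topIsTerminal (Spec (CommRingCat.of E))).from (galObj E M)
    haveI : Surjective top.left := ⟨fun x => ⟨(default : Spec (CommRingCat.of M)),
      Subsingleton.elim (α := Spec (CommRingCat.of E)) _ _⟩⟩
    obtain ⟨t, ht⟩ := exists_descend_act Q top (ψ c₀) hfix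
    have hpt : p • t = 0 := nsmul_app_eq_zero (nsmul_eq_zero_of_dev hF hπ) t
    let e := secHom t hpt
    let ψ' : ((M ≃ₐ[E] M) → ZMod p) →+ (cokernel e).obj.obj (op (galObj E M)) :=
      ((cokernel.π e).hom.app _).hom.comp ψ
    have h0 : (cokernel.π e).hom.app (op (galObj E M)) (ψ c₀) = 0 := by
      rw [← ht, NatTrans.naturality_apply]
      have h1 : (cokernel.π e).hom.app (op (EtCoh.top _)) t = 0 := by
        rw [← secPre_one t hpt, ← secHom_toSheafify t hpt]
        exact congrArg (fun q : EtCoh.const (Spec (CommRingCat.of E)) (ZMod p) ⟶ cokernel e =>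
          q.hom.app (op (EtCoh.top _)) _) (cokernel.condition e)
      exact (congrArg _ h1).trans (map_zero _)
    have hlt : Nat.card ψ'.range < Nat.card ψ.range := by
      haveI : Finite ψ.range := Finite.of_surjective ψ.rangeRestrict ψ.rangeRestrict_surjective
      let f : ψ.range → ψ'.range := fun w => ⟨(cokernel.π e).hom.app _ w.1, by
        obtain ⟨c, hc⟩ := w.2
        exact ⟨c, congrArg ((cokernel.π e).hom.app _) hc⟩⟩
      have hs : Function.Surjective f := by
        rintro ⟨_, c, rfl⟩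
        exact ⟨⟨ψ c, c, rfl⟩, rfl⟩
      haveI : Finite ψ'.range := Finite.of_surjective f hs
      haveI := Fintype.ofFinite ψ.range
      haveI := Fintype.ofFinite ψ'.range
      rw [Nat.card_eq_fintype_card, Nat.card_eq_fintype_card]
      refine Fintype.card_lt_of_surjective_not_injective f hs fun hi => hc₀ ?_
      exact congrArg Subtype.val (hi (a₁ := ⟨ψ c₀, c₀, rfl⟩) (a₂ := 0) (Subtype.ext (h0.trans (map_zero _).symm)))
    obtain ⟨Q', φ, hφ, hk'⟩ := ih (π ≫ cokernel.π e) (hπ.step PUnit.unit e) ψ' (by omega) (fun g c => by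
      obtain ⟨c', hc'⟩ := hψ g c
      exact ⟨c', (NatTrans.naturality_apply (cokernel.π e).hom (act E M g).op (ψ c)).symm.trans
        (congrArg ((cokernel.π e).hom.app _) hc')⟩)
    refine ⟨Q', cokernel.π e ≫ φ, by rwa [← Category.assoc], fun c => hk' c⟩

/-- a section over a Galois extension of prime power degree dies in a quotient by constants -/
theorem exists_kill {a : ℕ} (hG : Module.finrank E M = p ^ a)
    {F Q : EtCoh.Ab (Spec (CommRingCat.of E))} (hF : p • 𝟙 F = 0) (π : F ⟶ Q) (hπ : Dev (constM E p) F π)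
    (s : Q.obj.obj (op (galObj E M))) :
    ∃ (Q' : EtCoh.Ab (Spec (CommRingCat.of E))) (φ : Q ⟶ Q'), Dev (constM E p) F (π ≫ φ) ∧
      φ.hom.app _ s = 0 := by
  classical
  haveI := Fintype.ofFinite (M ≃ₐ[E] M)
  have hp : ∀ g, zmultiplesHom _ (T Q g s) (p : ℤ) = 0 := fun g =>
    (natCast_zsmul _ p).trans (nsmul_app_eq_zero (nsmul_eq_zero_of_dev hF hπ) _)
  let ψ : ((M ≃ₐ[E] M) → ZMod p) →+ Q.obj.obj (op (galObj E M)) :=
    ∑ g, (ZMod.lift p ⟨_, hp g⟩).comp (Pi.evalAddMonoidHom _ g)
  have hψ : ∀ g c, ∃ c', T Q g (ψ c) = ψ c' := fun g c => ⟨fun h => c (g⁻¹ * h), by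
    simp only [ψ, AddMonoidHom.finsetSum_apply, map_sum]
    refine Fintype.sum_equiv (Equiv.mulLeft g) _ _ fun h => ?_
    simp only [AddMonoidHom.comp_apply, Pi.evalAddMonoidHom_apply, Equiv.coe_mulLeft]
    rw [inv_mul_cancel_left]
    generalize c h = i
    obtain ⟨i, rfl⟩ := ZMod.intCast_surjective i
    rw [ZMod.lift_coe, ZMod.lift_coe]
    refine (map_zsmul (T Q g) i _).trans (congrArg (i • ·) ?_)
    exact (res_res Q.obj _ _ s).trans (by rw [act_mul]; rfl)⟩
  obtain ⟨Q', φ, hφ, h⟩ := exists_kill_aux hG hF _ π hπ ψ le_rfl hψ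
  refine ⟨Q', φ, hφ, ?_⟩
  have hs : ψ (Pi.single 1 1) = s := by
    simp only [ψ, AddMonoidHom.finsetSum_apply]
    rw [Finset.sum_eq_single (1 : M ≃ₐ[E] M)]
    · simp only [AddMonoidHom.comp_apply, Pi.evalAddMonoidHom_apply]
      rw [Pi.single_eq_same, show (1 : ZMod p) = ((1 : ℤ) : ZMod p) by norm_num, ZMod.lift_coe]
      refine (one_zsmul (T Q 1 s)).trans ?_
      show res Q.obj (act E M 1) s = s
      rw [act_one]
      exact ConcreteCategory.congr_hom (Q.obj.map_id _) _
    · intro g _ hg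
      simp only [AddMonoidHom.comp_apply, Pi.evalAddMonoidHom_apply]
      rw [Pi.single_eq_of_ne hg, map_zero]
    · exact fun hmem => absurd (Finset.mem_univ _) hmem
  rw [← hs]
  exact h _

end Groth.L28.FieldCd
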