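import Groth.Agent.L28.FieldCd.PGroup
import Groth.Agent.L28.EtTrace.Galois
import Groth.Agent.L27.Colim.FreeSheaf
import Groth.Agent.L27.ExtZero.Restr

/-!
Sheaves killed by a prime on the spectrum of a field: reduction to constant coefficients.
-/

set_option autoImplicit false
set_option linter.style.haveILetI false
set_option linter.unusedSectionVars false
set_option backward.isDefEq.respectTransparency.types false

universe u

open CategoryTheory CategoryTheory.Limits AlgebraicGeometry Opposite CategoryTheory.Abelian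
open Groth.L28.ProEt.Cech (res res_res)
open Groth.L28.EtTrace (galObj act specExt exists_unique_act etale_specExt)
open Groth.L27.ExtZero (epsE restrAdj pullRestr jCont)
open Groth.L27.Colim (freeSh univ homEquiv ext_univ)
open EtShriek (compEtale restrAlong)

namespace Groth.L28.FieldCd

variable (K : Type u) [Field K]

/-- finite Galois subextensions of the separable closure -/
def Idx : Type (u + 1) :=
  ULift.{u + 1} {L : IntermediateField K (SeparableClosure K) // FiniteDimensional K L ∧ IsGalois K L}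

/-- the field of an index -/
abbrev Idx.fld (i : Idx K) : IntermediateField K (SeparableClosure K) := i.down.1

instance (i : Idx K) : FiniteDimensional K i.fld := i.down.2.1

instance (i : Idx K) : IsGalois K i.fld := i.down.2.2

/-- the test objects: free sheaves on Galois extensions -/
noncomputable abbrev gens (i : Idx K) : EtCoh.Ab (Spec (CommRingCat.of K)) := freeSh (galObj K i.fld)

variable {K}

theorem exists_idx_sup (i j : Idx K) : ∃ k : Idx K, i.fld ≤ k.fld ∧ j.fld ≤ k.fld := by
  haveI : Normal K i.fld := IsGalois.to_normal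
  haveI : Normal K j.fld := IsGalois.to_normal
  haveI : FiniteDimensional K (i.fld ⊔ j.fld : IntermediateField K (SeparableClosure K)) :=
    IntermediateField.finiteDimensional_sup _ _
  haveI : Normal K (i.fld ⊔ j.fld : IntermediateField K (SeparableClosure K)) :=
    IntermediateField.normal_sup K (SeparableClosure K) _ _
  exact ⟨⟨⟨i.fld ⊔ j.fld, inferInstance, ⟨⟩⟩⟩, le_sup_left, le_sup_right⟩

/-- every point of an étale scheme over a field is reached from a Galois extension -/
theorem exists_gal_point (U : (Spec (CommRingCat.of K)).Etale) (z : U.left) :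
    ∃ (i : Idx K) (g : galObj K i.fld ⟶ U) (v : (galObj K i.fld).left), g.left v = z := by
  obtain ⟨O, hO, hz, -⟩ := exists_isAffineOpen_mem_and_subset (U := (⊤ : U.left.Opens)) (x := z) trivial
  let V := O.toScheme
  haveI : IsAffine V := hO
  let w : U.left ⟶ Spec (CommRingCat.of K) := U.hom
  haveI : AlgebraicGeometry.Etale w := U.prop
  let v : V ⟶ Spec (CommRingCat.of K) := O.ι ≫ w
  let A := Γ(V, ⊤)
  let φ : K →+* A := v.appTop.hom.comp (Scheme.ΓSpecIso (CommRingCat.of K)).inv.hom
  letI := φ.toAlgebra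
  haveI : Algebra.Etale K A :=
    RingHom.Etale.respectsIso.2 v.appTop.hom (Scheme.ΓSpecIso (CommRingCat.of K)).symm.commRingCatIsoToRingEquiv
      (HasRingHomProperty.appTop @AlgebraicGeometry.Etale v (inferInstanceAs (AlgebraicGeometry.Etale (O.ι ≫ w))))
  haveI : Module.Finite K A := Algebra.FormallyUnramified.finite_of_free K A
  haveI : IsArtinianRing A := IsArtinianRing.of_finite K A
  let q : PrimeSpectrum A := V.isoSpec.hom ⟨z, hz⟩
  let m := q.asIdeal
  haveI : m.IsMaximal := IsArtinianRing.isMaximal_of_isPrime m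
  letI := Ideal.Quotient.field m
  let Ω := SeparableClosure K
  let M : IntermediateField K Ω := IntermediateField.normalClosure K (A ⧸ m) Ω
  let χ : (A ⧸ m) →ₐ[K] Ω := IsSepClosed.lift
  let ψ : (A ⧸ m) →ₐ[K] M := χ.codRestrict M.toSubalgebra fun x => χ.fieldRange_le_normalClosure ⟨x, rfl⟩
  haveI : FiniteDimensional K M := inferInstanceAs (FiniteDimensional K (IntermediateField.normalClosure K (A ⧸ m) Ω))
  haveI : Normal K M := inferInstanceAs (Normal K (IntermediateField.normalClosure K (A ⧸ m) Ω))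
  let θ : A →+* M := ψ.toRingHom.comp (Ideal.Quotient.mk m)
  let r : Spec (CommRingCat.of M) ⟶ U.left := Spec.map (CommRingCat.ofHom θ) ≫ V.isoSpec.inv ≫ O.ι
  have hr : r ≫ U.hom = specExt K M := by
    have hv : V.isoSpec.inv ≫ v = Spec.map v.appTop ≫ (Spec (CommRingCat.of K)).isoSpec.inv := by
      rw [Iso.inv_comp_eq, ← Category.assoc, Iso.eq_comp_inv]
      exact (Scheme.isoSpec_hom_naturality v).symm
    show (Spec.map (CommRingCat.ofHom θ) ≫ V.isoSpec.inv ≫ O.ι) ≫ w = _
    rw [Category.assoc, Category.assoc, show V.isoSpec.inv ≫ O.ι ≫ w = _ from hv, Scheme.isoSpec_Spec_inv,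
      ← Spec.map_comp, ← Spec.map_comp]
    exact congrArg (fun h => Spec.map (CommRingCat.ofHom h)) (RingHom.ext fun x => ψ.commutes x)
  refine ⟨⟨⟨M, inferInstance, ⟨⟩⟩⟩, MorphismProperty.Over.homMk r hr, (default : Spec (CommRingCat.of M)), ?_⟩
  have hq : Spec.map (CommRingCat.ofHom θ) (default : Spec (CommRingCat.of M)) = q := PrimeSpectrum.ext (by
    change Ideal.comap θ (PrimeSpectrum.asIdeal (R := M) (default : Spec (CommRingCat.of M))) = m
    rw [Ideal.eq_bot_of_prime (PrimeSpectrum.asIdeal (R := M) (default : Spec (CommRingCat.of M)))]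
    show RingHom.ker θ = m
    rw [RingHom.ker_comp_of_injective _ ψ.toRingHom.injective, Ideal.mk_ker])
  show O.ι (V.isoSpec.inv (Spec.map (CommRingCat.ofHom θ) (default : Spec (CommRingCat.of M)))) = z
  rw [hq]
  show O.ι ((V.isoSpec.hom ≫ V.isoSpec.inv) (⟨z, hz⟩ : V)) = z
  rw [Iso.hom_inv_id]
  rfl

/-- every class dies in a quotient by finitely many sections -/
theorem exists_dev_gens {F : EtCoh.Ab (Spec (CommRingCat.of K))} (n : ℕ)
    (x : EtCoh.H (Spec (CommRingCat.of K)) F n) :
    ∃ (Q : EtCoh.Ab (Spec (CommRingCat.of K))) (π : F ⟶ Q), Dev (gens K) F π ∧ (EtCoh.HF _ n).map π x = 0 := by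
  refine exists_dev_eq_zero (fun U s z => ?_) n x
  obtain ⟨i, g, v, hv⟩ := exists_gal_point U z
  let e : gens K i ⟶ F := (homEquiv (galObj K i.fld) F).symm (F.obj.map g.op s)
  refine ⟨_, g, v, hv, _, 𝟙 F ≫ cokernel.π e, Dev.refl.step i e, ?_⟩
  rw [Category.id_comp, ← (homEquiv (galObj K i.fld) F).apply_symm_apply (F.obj.map g.op s)]
  exact congrArg (fun k : gens K i ⟶ cokernel e => k.hom.app (op (galObj K i.fld)) (univ _)) (cokernel.condition e)

section Sub

variable {p : ℕ} [Fact p.Prime] {M : Type u} [Field M] [Algebra K M] [FiniteDimensional K M]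
  (E : Type u) [Field E] [Algebra K E] [FiniteDimensional K E] [Algebra.IsSeparable K E]
  [Algebra E M] [IsScalarTower K E M] [FiniteDimensional E M] [IsGalois E M]

/-- the sections to be killed -/
noncomputable def hull : (Spec (CommRingCat.of K)).Etale :=
  haveI := etale_specExt K E
  (compEtale (specExt K E)).obj (galObj E M)

theorem finite_hull_hom (L : Type u) [Field L] [Algebra K L] [FiniteDimensional K L] [IsGalois K L] :
    Finite (hull (K := K) (M := M) E ⟶ galObj K L) := by
  haveI := etale_specExt K E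
  let r : (hull (K := K) (M := M) E ⟶ galObj K L) → (L →+* M) := fun k =>
    (Spec.preimage (S := CommRingCat.of M) (R := CommRingCat.of L) k.left).hom
  have hr : ∀ k x, r k (algebraMap K L x) = algebraMap K M x := fun k x => by
    have h : k.left ≫ specExt K L = specExt E M ≫ specExt K E := MorphismProperty.Over.w k
    rw [← Spec.map_preimage (S := CommRingCat.of M) (R := CommRingCat.of L) k.left] at h
    replace h := ((Spec.map_comp _ _).trans h).trans (Spec.map_comp _ _).symm
    exact (RingHom.congr_fun (congrArg CommRingCat.Hom.hom (Spec.map_injective h)) x).trans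
      (IsScalarTower.algebraMap_apply K E M x).symm
  refine Finite.of_injective (fun k => ({ r k with commutes' := hr k } : L →ₐ[K] M)) fun k k' h => ?_
  refine MorphismProperty.Over.Hom.ext ?_
  have h' : r k = r k' := congrArg AlgHom.toRingHom h
  rw [← Spec.map_preimage (S := CommRingCat.of M) (R := CommRingCat.of L) k.left,
    ← Spec.map_preimage (S := CommRingCat.of M) (R := CommRingCat.of L) k'.left]
  exact congrArg Spec.map (CommRingCat.hom_ext h')

variable {a : ℕ} (hG : Module.finrank E M = p ^ a)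

include hG in
theorem exists_kill_list {F Q : EtCoh.Ab (Spec (CommRingCat.of E))} (hF : p • 𝟙 F = 0)
    (l : List (Q.obj.obj (op (galObj E M)))) : ∀ (π : F ⟶ Q), Dev (constM E p) F π →
    ∃ (Q' : EtCoh.Ab (Spec (CommRingCat.of E))) (φ : Q ⟶ Q'), Dev (constM E p) F (π ≫ φ) ∧
      ∀ s ∈ l, φ.hom.app _ s = 0 := by
  induction l with
  | nil => exact fun π hπ => ⟨Q, 𝟙 Q, by rwa [Category.comp_id], fun s h => absurd h List.not_mem_nil⟩
  | cons s l ih =>
    intro π hπ
    obtain ⟨Q₁, φ₁, h₁, hl⟩ := ih π hπ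
    obtain ⟨Q₂, φ₂, h₂, hs⟩ := exists_kill hG hF _ h₁ (φ₁.hom.app _ s)
    refine ⟨Q₂, φ₁ ≫ φ₂, by rwa [← Category.assoc], fun t ht => ?_⟩
    rcases List.mem_cons.1 ht with rfl | ht
    · exact hs
    · exact (congrArg (φ₂.hom.app _) (hl t ht)).trans (map_zero _)

include hG in
/-- one step of the comparison -/
theorem exists_step [AlgebraicGeometry.Etale (specExt K E)] [EtShriek.JCont (specExt K E)] {F Q : EtCoh.Ab (Spec (CommRingCat.of K))}
    {π : F ⟶ Q} {Q' : EtCoh.Ab (Spec (CommRingCat.of E))} (φ : (restrAlong (specExt K E)).obj Q ⟶ Q')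
    (hF : p • 𝟙 ((restrAlong (specExt K E)).obj F) = 0)
    (h : Dev (constM E p) _ ((restrAlong (specExt K E)).map π ≫ φ))
    (L : Type u) [Field L] [Algebra K L] [FiniteDimensional K L] [IsGalois K L] (ψ : L →ₐ[K] M)
    (e : freeSh (galObj K L) ⟶ Q) :
    ∃ (Q'' : EtCoh.Ab (Spec (CommRingCat.of E))) (φ' : (restrAlong (specExt K E)).obj (cokernel e) ⟶ Q''),
      Dev (constM E p) _ ((restrAlong (specExt K E)).map (π ≫ cokernel.π e) ≫ φ') := by
  classical
  haveI := etale_specExt K E
  haveI := finite_hull_hom (K := K) (M := M) E L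
  haveI := Fintype.ofFinite (hull (K := K) (M := M) E ⟶ galObj K L)
  let f := specExt K E
  let s₀ : Q.obj.obj (op (galObj K L)) := e.hom.app _ (univ _)
  let sec : (hull (K := K) (M := M) E ⟶ galObj K L) → Q'.obj.obj (op (galObj E M)) := fun k =>
    φ.hom.app (op (galObj E M)) (res Q.obj k s₀)
  obtain ⟨Q'', φ₂, h₂, hk⟩ := exists_kill_list E hG hF (Finset.univ.toList.map sec) _ h
  let χ : (restrAlong f).obj Q ⟶ Q'' := φ ≫ φ₂
  let χ' : Q ⟶ (EtCoh.push f).obj Q'' := (restrAdj f).homEquiv _ _ χ
  have hχ : e ≫ χ' = 0 := by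
    refine ext_univ (galObj K L) _ _ ?_
    show χ'.hom.app (op (galObj K L)) s₀ = 0
    have hu : χ'.hom.app (op (galObj K L)) s₀ = χ.hom.app (op ((EtCoh.bc f).obj (galObj K L)))
        (res Q.obj (epsE f (galObj K L)) s₀) := by
      show ((restrAdj f).homEquiv _ _ χ).hom.app (op (galObj K L)) s₀ = _
      rw [Adjunction.homEquiv_unit]
      rfl
    rw [hu]
    refine Groth.L27.EtSite.ext_of_locally Q'' fun z => ?_
    obtain ⟨Ω', _, _, ζ, hζ⟩ := Groth.L27.FEtGal.exists_geometric z
    obtain ⟨β, hβ⟩ := Spec.map_surjective (R := CommRingCat.of E)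
      ((ζ ≫ pullback.snd (galObj K L).hom f : Spec (CommRingCat.of Ω') ⟶ Spec (CommRingCat.of E)))
    letI : Algebra E Ω' := β.hom.toAlgebra
    let μ : M →ₐ[E] Ω' := IsAlgClosed.lift
    let μs : Spec (CommRingCat.of Ω') ⟶ Spec (CommRingCat.of M) := Spec.map (CommRingCat.ofHom μ.toRingHom)
    let ψs : Spec (CommRingCat.of M) ⟶ (galObj K L).left := Spec.map (CommRingCat.ofHom ψ.toRingHom)
    have hμ : μs ≫ specExt E M = ζ ≫ pullback.snd (galObj K L).hom f := by
      rw [← hβ, ← Spec.map_comp, ← CommRingCat.ofHom_comp]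
      exact congrArg Spec.map (CommRingCat.hom_ext μ.comp_algebraMap)
    have hψ : ψs ≫ (galObj K L).hom = specExt E M ≫ f := by
      show Spec.map _ ≫ Spec.map _ = Spec.map _ ≫ Spec.map _
      rw [← Spec.map_comp, ← Spec.map_comp, ← CommRingCat.ofHom_comp, ← CommRingCat.ofHom_comp]
      exact congrArg (fun r => Spec.map (CommRingCat.ofHom r)) (RingHom.ext fun x =>
        (ψ.commutes x).trans (IsScalarTower.algebraMap_apply K E M x))
    obtain ⟨g, hg, -⟩ := exists_unique_act K L Ω' (μs ≫ ψs) (ζ ≫ pullback.fst (galObj K L).hom f) (by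
      rw [Category.assoc, Category.assoc, hψ]
      exact ((Category.assoc _ _ _).symm.trans (congrArg (· ≫ f) hμ)).trans ((Category.assoc _ _ _).trans
        (congrArg (ζ ≫ ·) pullback.condition.symm)))
    let k₀ : Spec (CommRingCat.of M) ⟶ (galObj K L).left := ψs ≫ (act K L g).left
    have hk₀ : k₀ ≫ (galObj K L).hom = specExt E M ≫ f := by
      show (ψs ≫ (act K L g).left) ≫ (galObj K L).hom = _
      rw [Category.assoc, MorphismProperty.Over.w, hψ]
    let m : galObj E M ⟶ (EtCoh.bc f).obj (galObj K L) :=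
      MorphismProperty.Over.homMk (pullback.lift k₀ (specExt E M) hk₀) (pullback.lift_snd _ _ _)
    refine ⟨galObj E M, m, (default : Spec (CommRingCat.of M)), ?_, ?_⟩
    · have e1 : μs ≫ pullback.lift k₀ (specExt E M) hk₀ = ζ := by
        refine pullback.hom_ext ?_ ?_
        · rw [Category.assoc, pullback.lift_fst]
          exact (Category.assoc _ _ _).symm.trans hg
        · rw [Category.assoc, pullback.lift_snd]
          exact hμ
      refine Eq.trans ?_ hζ
      rw [← e1]
      show _ = pullback.lift k₀ (specExt E M) hk₀ (μs default)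
      exact congrArg (pullback.lift k₀ (specExt E M) hk₀) (Subsingleton.elim (α := Spec (CommRingCat.of M)) _ _)
    · refine Eq.trans ?_ (map_zero (Q''.obj.map m.op).hom).symm
      refine (NatTrans.naturality_apply χ.hom m.op _).symm.trans ?_
      show φ₂.hom.app _ (φ.hom.app _ (res Q.obj ((compEtale f).map m) (res Q.obj (epsE f (galObj K L)) s₀))) = 0
      rw [res_res]
      exact hk _ (List.mem_map.2 ⟨(compEtale f).map m ≫ epsE f (galObj K L), Finset.mem_toList.2 (Finset.mem_univ _), rfl⟩)
  refine ⟨Q'', ((restrAdj f).homEquiv _ _).symm (cokernel.desc e χ' hχ), ?_⟩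
  have e2 : (restrAlong f).map (π ≫ cokernel.π e) ≫ ((restrAdj f).homEquiv _ _).symm (cokernel.desc e χ' hχ) =
      ((restrAlong f).map π ≫ φ) ≫ φ₂ := by
    rw [← Adjunction.homEquiv_naturality_left_symm, Category.assoc, cokernel.π_desc,
      Adjunction.homEquiv_naturality_left_symm]
    show _ ≫ ((restrAdj f).homEquiv _ _).symm ((restrAdj f).homEquiv _ _ χ) = _
    rw [Equiv.symm_apply_apply, Category.assoc]
  rw [e2]
  exact h₂

end Sub

/-- comparison of the quotients over a subfield with Galois group a `p`-group -/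
theorem exists_compare {p : ℕ} [Fact p.Prime] {F Q : EtCoh.Ab (Spec (CommRingCat.of K))} (hF : p • 𝟙 F = 0)
    {π : F ⟶ Q} (h : Dev (gens K) F π) :
    ∃ i : Idx K, ∀ (j : Idx K), i.fld ≤ j.fld → ∀ (E : Type u) [Field E] [Algebra K E] [FiniteDimensional K E]
      [Algebra.IsSeparable K E] [Algebra E j.fld] [IsScalarTower K E j.fld] [FiniteDimensional E j.fld]
      [IsGalois E j.fld] [AlgebraicGeometry.Etale (specExt K E)] [EtShriek.JCont (specExt K E)] (a : ℕ), Module.finrank E j.fld = p ^ a →
      ∃ (Q' : EtCoh.Ab (Spec (CommRingCat.of E))) (φ : (restrAlong (specExt K E)).obj Q ⟶ Q'),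
        Dev (constM E p) _ ((restrAlong (specExt K E)).map π ≫ φ) := by
  induction h with
  | refl =>
    refine ⟨⟨⟨⊥, inferInstance, inferInstance⟩⟩, fun j _ E _ _ _ _ _ _ _ _ _ _ a _ => ?_⟩
    refine ⟨_, 𝟙 _, ?_⟩
    rw [CategoryTheory.Functor.map_id, Category.id_comp]
    exact Dev.refl
  | @step Q π h i e ih =>
    obtain ⟨i₀, hi₀⟩ := ih
    obtain ⟨k, hk₀, hk⟩ := exists_idx_sup i₀ i
    refine ⟨k, fun j hj E _ _ _ _ _ _ _ _ _ _ a ha => ?_⟩
    obtain ⟨Q', φ, hφ⟩ := hi₀ j (hk₀.trans hj) E a ha
    have hF' : p • 𝟙 ((restrAlong (specExt K E)).obj F) = 0 := by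
      refine ObjectProperty.hom_ext _ (NatTrans.ext (funext fun U => AddCommGrpCat.hom_ext (AddMonoidHom.ext fun s => ?_)))
      exact (Groth.L27.Colim.hom_nsmul_app _ p U.unop s).trans
        (nsmul_app_eq_zero hF (U := (compEtale (specExt K E)).obj U.unop) s)
    exact exists_step E ha φ hF' hφ i.fld (IntermediateField.inclusion (hk.trans hj)) e

end Groth.L28.FieldCd
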